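import Groth.Agent.L02.PicEtale.Basic
import Groth.Agent.L09.LfpEt.Apply
import Groth.Agent.L09.LfpLift.Basic
import Groth.Agent.L19.Limit.AmpleNearPoint
import Groth.Agent.L19.Limit.OverBase
import Groth.Agent.L19.LimMod.Descend
import Groth.Prelude.Def_PicLoc

/-!
# A scheme representing the relative Picard functor is locally of finite presentation
-/

universe u

open CategoryTheory CategoryTheory.Limits AlgebraicGeometry Opposite AlgSp

set_option autoImplicit false
set_option linter.style.haveILetI false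
set_option linter.unusedSectionVars false
set_option backward.isDefEq.respectTransparency false
set_option backward.isDefEq.respectTransparency.types false

noncomputable section

namespace Groth.L02.PicLft

open Groth.L02.PicEtale Groth.L23
open Groth.L09.LfpFppf (one toOne one_subsingleton)
open Groth.L19.Limit (baseDiagram baseCone isLimitBaseCone isAffineHom_baseDiagram_map isInvertible_stage)

variable {X S : Scheme.{u}} (f : X ⟶ S)

/-- Invertible classes on base changes, as a presheaf. -/
def picPre : PSp S where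
  obj T := PicLoc.PicSet (PicF.XT f T.unop)
  map g := TypeCat.ofHom fun c => ⟨PicF.pullCl (PicF.XTmap f g.unop) c.1, PicLoc.isInvertibleCl_pullCl _ c.2⟩
  map_id T := by
    ext c
    refine Subtype.ext ?_
    show PicF.pullCl (PicF.XTmap f (𝟙 T.unop)) c.1 = c.1
    rw [show PicF.XTmap f (𝟙 T.unop) = 𝟙 _ from ?_, PicLoc.pullCl_id]
    apply pullback.hom_ext
    · rw [XTmap_fst, Category.id_comp]
    · rw [Category.id_comp]
      exact (XTmap_snd f _).trans (Category.comp_id _)
  map_comp g h := by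
    ext c
    exact Subtype.ext (pullCl_XTmap_comp f h.unop g.unop c.1).symm

theorem seps_picPre [QuasiCompact f] [QuasiSeparated f] : RLim.Seps (toOne (picPre f)) := by
  intro I _ _ D c hc hD hpt i x x' _ h
  obtain ⟨cx, ⟨L, hL, hLi⟩⟩ := x
  obtain ⟨cx', ⟨L', hL', hLi'⟩⟩ := x'
  subst hL hL'
  let t : ∀ j, (D.obj j).left ⟶ S := fun j => (D.obj j).hom
  have ht : ∀ {j k : I} (ψ : j ⟶ k), (D.map ψ).left ≫ t k = t j := fun ψ => Over.w (D.map ψ)
  let B := baseDiagram (D := D ⋙ Over.forget S) f t ht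
  let cB := baseCone (D := D ⋙ Over.forget S) (c := (Over.forget S).mapCone c) f t ht c.pt.hom fun j => Over.w (c.π.app j)
  haveI : ∀ {j k : I} (ψ : j ⟶ k), IsAffineHom ((D ⋙ Over.forget S).map ψ) := fun {j k} ψ =>
    haveI : IsAffine ((D ⋙ Over.forget S).obj j) := hD j
    haveI : IsAffine ((D ⋙ Over.forget S).obj k) := hD k
    isAffineHom_of_isAffine _
  haveI : ∀ (j k : I) (ψ : j ⟶ k), IsAffineHom (B.map ψ) := fun j k ψ =>
    isAffineHom_baseDiagram_map (D := D ⋙ Over.forget S) f t ht ψ
  haveI := hD i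
  haveI : QuasiCompact (pullback.snd f (t i)) := MorphismProperty.pullback_snd _ _ inferInstance
  haveI : QuasiSeparated (pullback.snd f (t i)) := MorphismProperty.pullback_snd _ _ inferInstance
  haveI : CompactSpace (B.obj i) := QuasiCompact.compactSpace_of_compactSpace (pullback.snd f (t i))
  haveI : QuasiSeparatedSpace (B.obj i) := quasiSeparatedSpace_of_quasiSeparated (pullback.snd f (t i))
  have hB : ∀ {j k : I} (ψ : j ⟶ k), PicF.XTmap f (D.map ψ) = B.map ψ := fun ψ => by
    apply pullback.hom_ext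
    · rw [XTmap_fst]; exact ((pullback.lift_fst _ _ _).trans (Category.comp_id _)).symm
    · exact (XTmap_snd f _).trans (pullback.lift_snd _ _ _).symm
  have hcB : ∀ j, PicF.XTmap f (c.π.app j) = cB.π.app j := fun j => by
    apply pullback.hom_ext
    · rw [XTmap_fst]; exact ((pullback.lift_fst _ _ _).trans (Category.comp_id _)).symm
    · exact (XTmap_snd f _).trans (pullback.lift_snd _ _ _).symm
  have hv : PicF.pullCl (PicF.XTmap f (c.π.app i)) (PicF.cl L) =
      PicF.pullCl (PicF.XTmap f (c.π.app i)) (PicF.cl L') := congrArg Subtype.val h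
  have e : Nonempty ((Scheme.Modules.pullback (PicF.XTmap f (c.π.app i))).obj L ≅
      (Scheme.Modules.pullback (PicF.XTmap f (c.π.app i))).obj L') := nonempty_iso_of_cl_eq hv
  rw [hcB i] at e
  have hfp : ∀ {M : (B.obj i).Modules}, PicF.IsInvertible M → CohB1.IsFP M := fun {M} hM =>
    Groth.L18.LFP.isFP_of_isFinLocFree M fun x => by
      obtain ⟨U, hx, e⟩ := Groth.L03.ShStab.RankOneSlope.rank_one_of_invertible hM x
      exact ⟨U, 1, hx, e⟩
  haveI : Coh.IsQCoh (X := B.obj i) L := Groth.L21.Extend.isQCoh_of_isInvertible hLi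
  haveI : Coh.IsQCoh (X := B.obj i) L' := Groth.L21.Extend.isQCoh_of_isInvertible hLi'
  obtain ⟨j, ψ, he⟩ := Groth.L19.LimMod.exists_iso B cB (isLimitBaseCone f t ht _ _ hc) (i := i) L L'
    (hfp hLi) (hfp hLi') e.some
  rw [← hB ψ] at he
  exact ⟨j, ψ, Subtype.ext (Quot.sound he)⟩

theorem lifts_picPre [QuasiCompact f] [QuasiSeparated f] : RLim.Lifts (toOne (picPre f)) := by
  intro I _ _ D c hc hD hpt i g x _
  obtain ⟨cx, ⟨L, hL, hLi⟩⟩ := x
  subst hL
  let t : ∀ j, (D.obj j).left ⟶ S := fun j => (D.obj j).hom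
  have ht : ∀ {j k : I} (ψ : j ⟶ k), (D.map ψ).left ≫ t k = t j := fun ψ => Over.w (D.map ψ)
  let B := baseDiagram (D := D ⋙ Over.forget S) f t ht
  let cB := baseCone (D := D ⋙ Over.forget S) (c := (Over.forget S).mapCone c) f t ht c.pt.hom fun j => Over.w (c.π.app j)
  haveI : ∀ {j k : I} (ψ : j ⟶ k), IsAffineHom ((D ⋙ Over.forget S).map ψ) := fun {j k} ψ =>
    haveI : IsAffine ((D ⋙ Over.forget S).obj j) := hD j
    haveI : IsAffine ((D ⋙ Over.forget S).obj k) := hD k
    isAffineHom_of_isAffine _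
  haveI : ∀ (j k : I) (ψ : j ⟶ k), IsAffineHom (B.map ψ) := fun j k ψ =>
    isAffineHom_baseDiagram_map (D := D ⋙ Over.forget S) f t ht ψ
  haveI : ∀ j, CompactSpace (B.obj j) := fun j =>
    haveI := hD j
    haveI : QuasiCompact (pullback.snd f (t j)) := MorphismProperty.pullback_snd _ _ inferInstance
    QuasiCompact.compactSpace_of_compactSpace (pullback.snd f (t j))
  haveI : ∀ j, QuasiSeparatedSpace (B.obj j) := fun j =>
    haveI := hD j
    haveI : QuasiSeparated (pullback.snd f (t j)) := MorphismProperty.pullback_snd _ _ inferInstance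
    quasiSeparatedSpace_of_quasiSeparated (pullback.snd f (t j))
  obtain ⟨k, L₁, hL₁, ⟨e⟩⟩ := isInvertible_stage B cB (isLimitBaseCone f t ht _ _ hc) i L hLi
  obtain ⟨j, a, b, -⟩ := IsCofilteredOrEmpty.cone_objs i k
  refine ⟨j, a, ⟨PicF.pullCl (PicF.XTmap f (D.map b)) (PicF.cl L₁),
    PicLoc.isInvertibleCl_pullCl _ (isInvertibleCl_cl hL₁)⟩, one_subsingleton _ _, Subtype.ext ?_⟩
  show PicF.pullCl (PicF.XTmap f (c.π.app j)) (PicF.pullCl (PicF.XTmap f (D.map b)) (PicF.cl L₁)) = PicF.cl L
  rw [pullCl_XTmap_comp, c.w, show PicF.XTmap f (c.π.app k) = cB.π.app k from ?_]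
  · exact Quot.sound ⟨e⟩
  · apply pullback.hom_ext
    · rw [XTmap_fst]; exact ((pullback.lift_fst _ _ _).trans (Category.comp_id _)).symm
    · exact (XTmap_snd f _).trans (pullback.lift_snd _ _ _).symm

theorem mem_J_of_etale {T : Over S} {ι : Type u} (U : ι → T.left.Etale) (hU : EtCoh.Covers U) :
    Sieve.ofArrows (fun i => PicRel.ovr T (U i)) (fun i => PicRel.ovrHom T (U i)) ∈
      QuotSh.J Scheme.etalePrecoverage S T := by
  rw [GrothendieckTopology.mem_over_iff]
  refine GrothendieckTopology.superset_covering _ ?_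
    (Precoverage.generate_mem_toGrothendieck (J := Scheme.etalePrecoverage)
      (R := Presieve.ofArrows (fun i => (U i).left) fun i => (U i).hom) ?_)
  · rw [Sieve.generate_le_iff]
    rintro Z g ⟨k⟩
    exact (Sieve.overEquiv_iff _ (U k).hom).2 (by
      refine ⟨_, Over.homMk (𝟙 _) (by simp), PicRel.ovrHom T (U k), ⟨k⟩, ?_⟩
      ext; simp)
  · rw [Scheme.etalePrecoverage, Scheme.ofArrows_mem_precoverage_iff]
    exact ⟨fun x => let ⟨k, y, h⟩ := hU x; ⟨k, y, h⟩, fun k => (U k).prop⟩

theorem isSheaf_pyon (P : Over S) : Presheaf.IsSheaf (QuotSh.J Scheme.etalePrecoverage S) ((pyon S).obj P) := by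
  have hle : QuotSh.J Scheme.etalePrecoverage S ≤ AlgSp.J S := fun T R hR => by
    rw [GrothendieckTopology.mem_over_iff] at hR ⊢
    exact Precoverage.toGrothendieck_mono (Scheme.precoverage_mono fun _ _ _ (h : Etale _) =>
      ⟨inferInstance, inferInstance⟩) _ hR
  rw [isSheaf_iff_isSheaf_of_type]
  exact Presieve.isSheaf_of_le _ hle ((isSheaf_iff_isSheaf_of_type _ _).1 ((yon S).obj P).property)

variable {f} {P : Over S} {φ : ∀ T : Over S, PicF.Cl (PicF.XT f T) → (T ⟶ P)} (hP : PicRel.IsRelPic f P φ)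

/-- The map to the functor of points. -/
def toPts : picPre f ⟶ (pyon S).obj P where
  app T := TypeCat.ofHom fun c => ULift.up (φ T.unop c.1)
  naturality T T' g := by
    ext c
    exact congrArg ULift.up (hP.natural _ _ g.unop c.1 c.2)

theorem isLocallyInjective_toPts :
    Presheaf.IsLocallyInjective (QuotSh.J Scheme.etalePrecoverage S) (toPts hP) := by
  constructor
  intro T x y h
  obtain ⟨ι, U, hU, hl⟩ := hP.locallyInjective T.unop x.1 y.1 x.2 y.2 (congrArg ULift.down h)
  refine GrothendieckTopology.superset_covering _ ?_ (mem_J_of_etale U hU)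
  rw [Sieve.ofArrows, Sieve.generate_le_iff]
  rintro Z g ⟨k⟩
  exact Subtype.ext (hl k)

theorem isLocallySurjective_toPts :
    Presheaf.IsLocallySurjective (QuotSh.J Scheme.etalePrecoverage S) (toPts hP) := by
  constructor
  intro T s
  obtain ⟨ι, U, hU, hl⟩ := hP.locallySurjective T (ULift.down s)
  refine GrothendieckTopology.superset_covering _ ?_ (mem_J_of_etale U hU)
  rw [Sieve.ofArrows, Sieve.generate_le_iff]
  rintro Z g ⟨k⟩
  obtain ⟨c, hc, e⟩ := hl k
  exact ⟨⟨c, hc⟩, congrArg ULift.up e⟩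

include hP in
/-- The Picard scheme is locally of finite presentation. -/
theorem locallyOfFinitePresentation [QuasiCompact f] [QuasiSeparated f] : LocallyOfFinitePresentation P.hom := by
  haveI := isLocallyInjective_toPts hP
  haveI := isLocallySurjective_toPts hP
  have w : toPts hP ≫ toOne ((pyon S).obj P) = toOne (picPre f) ≫ 𝟙 (one S) := by
    ext T x
    exact one_subsingleton _ _
  have hlifts : RLim.Lifts (toOne ((pyon S).obj P)) :=
    Groth.L09.LfpEt.lifts_sheafify _ _ _ _ w (isSheaf_pyon P) Groth.L09.LfpEt.isSheaf_one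
      (lifts_picPre f) (seps_picPre f)
  have h : Groth.L09.LfpLift.Lifts ((yon S).map (Over.homMk P.hom (Category.comp_id _) : P ⟶ Over.mk (𝟙 S))) := by
    intro I _ _ D c hc hD hpt x i y _
    obtain ⟨a, rfl⟩ := (yon S).map_surjective x
    obtain ⟨j, t, xj, -, hxj⟩ := hlifts D c hc hD hpt i PUnit.unit (ULift.up a) (one_subsingleton _ _)
    obtain ⟨b, rfl⟩ := (yon S).map_surjective y
    refine ⟨j, t, (yon S).map (ULift.down xj), ?_, ?_⟩
    · rw [← Functor.map_comp]
      exact congrArg _ (congrArg ULift.down hxj)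
    · rw [← Functor.map_comp, ← Functor.map_comp]
      exact congrArg _ (Over.OverMorphism.ext ((Over.w (ULift.down xj)).trans
        ((Category.comp_id _).symm.trans (Over.w (D.map t ≫ b))).symm))
  exact Groth.L09.LfpLift.lfp_of_lifts _ h

end Groth.L02.PicLft
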